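import Mathlib
import Cfsg.Agent.SolvStruct.Basics

/-!
# Minimal normal subgroups of primitive groups: simple factors and regularity
-/

set_option autoImplicit false
set_option linter.unusedSectionVars false
set_option linter.style.haveILetI false

namespace Cfsg.Lib.PrimTypes

open Subgroup MulAction

variable {G : Type*} [Group G]

/-- A nonabelian finite simple group has an element whose order is not a power of a given prime. -/
theorem exists_not_ppow {S : Subgroup G} [Finite S] (hS : IsSimpleGroup S) (hna : ¬ IsMulCommutative S)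
    (p : ℕ) [hp : Fact p.Prime] : ∃ s ∈ S, ∀ k : ℕ, s ^ p ^ k ≠ 1 := by
  by_contra h
  push Not at h
  have hP : IsPGroup p S := fun s => (h s s.2).imp fun k hk => Subtype.ext (by simpa using hk)
  haveI := hS
  haveI : Nontrivial S := IsSimpleGroup.toNontrivial
  have hc := hP.center_nontrivial
  rcases IsSimpleGroup.eq_bot_or_eq_top_of_normal (center S) inferInstance with e | e
  · rw [e] at hc
    exact (not_nontrivial _) hc
  · exact hna ⟨⟨fun a b => (mem_center_iff.1 (e ▸ mem_top a) b).symm⟩⟩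

variable [Finite G]

/-- A minimal normal nonabelian subgroup `N` has a simple subgroup `S` normalised by `N` such that `N` is the
product of `S` and the centraliser of `S` in `N`. -/
theorem exists_simple_factor {N : Subgroup G} (hN : N.Normal) (hne : N ≠ ⊥)
    (hmin : ∀ K : Subgroup G, K.Normal → K ≤ N → K = ⊥ ∨ K = N) (hna : ¬ IsMulCommutative N) :
    ∃ S : Subgroup G, S ≤ N ∧ IsSimpleGroup S ∧ ¬ IsMulCommutative S ∧ N ≤ normalizer (S : Set G) ∧
      S ⊓ centralizer (S : Set G) = ⊥ ∧ N ≤ S ⊔ (N ⊓ centralizer (S : Set G)) ∧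
      (∀ K : Subgroup G, K ≤ S → K ≠ ⊥ → N ≤ normalizer (K : Set G) → K = S) ∧
      (∀ g : G, S.map (MulAut.conj g).toMonoidHom = S ∨
        S.map (MulAut.conj g).toMonoidHom ≤ N ⊓ centralizer (S : Set G)) ∧
      N = ⨆ g : G, S.map (MulAut.conj g).toMonoidHom := by
  obtain ⟨S, hSmin⟩ := (Set.toFinite {K : Subgroup G | K ≠ ⊥ ∧ K ≤ N ∧ N ≤ normalizer (K : Set G)}).exists_minimal
    ⟨N, hne, le_rfl, le_normalizer⟩
  obtain ⟨hS0, hSN, hSn⟩ := hSmin.prop
  have hmin' : ∀ K : Subgroup G, K ≤ S → K ≠ ⊥ → N ≤ normalizer (K : Set G) → K = S := fun K hK h0 hn =>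
    le_antisymm hK (hSmin.le_of_le ⟨h0, hK.trans hSN, hn⟩ hK)
  have hmap : ∀ (g : G) (x : G), x ∈ S.map (MulAut.conj g).toMonoidHom ↔ g⁻¹ * x * g ∈ S := fun g x => by
    rw [mem_map_equiv, MulAut.conj_symm_apply]
  have hfam : ∀ g : G, S.map (MulAut.conj g).toMonoidHom ≤ N ∧
      N ≤ normalizer ((S.map (MulAut.conj g).toMonoidHom : Subgroup G) : Set G) := by
    intro g
    refine ⟨fun x hx => ?_, fun n hn => mem_normalizer_iff.2 fun x => ?_⟩
    · have := hN.conj_mem _ (hSN ((hmap g x).1 hx)) g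
      simpa [mul_assoc] using this
    · rw [hmap, hmap, mem_normalizer_iff.1 (hSn (by simpa using hN.conj_mem n hn g⁻¹)) (g⁻¹ * x * g)]
      simp [mul_assoc]
  have hdis : ∀ g : G, S.map (MulAut.conj g).toMonoidHom = S ∨
      S.map (MulAut.conj g).toMonoidHom ⊓ S = ⊥ := by
    intro g
    by_cases h : S.map (MulAut.conj g).toMonoidHom ⊓ S = ⊥
    · exact Or.inr h
    left
    have := hmin' _ inf_le_right h (fun n hn => mem_normalizer_iff.2 fun x =>
      and_congr (mem_normalizer_iff.1 ((hfam g).2 hn) x) (mem_normalizer_iff.1 (hSn hn) x))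
    have h1 : S ≤ S.map (MulAut.conj g).toMonoidHom := le_of_eq_of_le this.symm inf_le_left
    refine (Subgroup.eq_of_le_of_card_ge h1 ?_).symm
    exact le_of_eq (card_map_of_injective (f := (MulAut.conj g).toMonoidHom) (MulAut.conj g).injective)
  have hcomm : ∀ g : G, S.map (MulAut.conj g).toMonoidHom = S ∨
      S.map (MulAut.conj g).toMonoidHom ≤ N ⊓ centralizer (S : Set G) := by
    intro g
    refine (hdis g).imp_right fun h => le_inf (hfam g).1 ?_
    intro x hx
    rw [mem_centralizer_iff]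
    intro s hs
    have hm : s * x * s⁻¹ * x⁻¹ ∈ S.map (MulAut.conj g).toMonoidHom ⊓ S := by
      refine Subgroup.mem_inf.2 ⟨mul_mem ((mem_normalizer_iff.1 ((hfam g).2 (hSN hs)) x).1 hx) (inv_mem hx), ?_⟩
      rw [mul_assoc, mul_assoc, ← mul_assoc x]
      exact mul_mem hs ((mem_normalizer_iff.1 (hSn ((hfam g).1 hx)) s⁻¹).1 (inv_mem hs))
    rw [h, mem_bot, mul_inv_eq_one, mul_inv_eq_iff_eq_mul] at hm
    exact hm
  have hgen : N = ⨆ g : G, S.map (MulAut.conj g).toMonoidHom := by
    set W := ⨆ g : G, S.map (MulAut.conj g).toMonoidHom with hW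
    have hWn : W.Normal := by
      refine ⟨fun x hx h => ?_⟩
      have hle : W.map (MulAut.conj h).toMonoidHom ≤ W := by
        rw [hW, Subgroup.map_iSup]
        refine iSup_le fun g => le_iSup_of_le (h * g) ?_
        rw [Subgroup.map_map]
        refine le_of_eq (congrArg (fun f => S.map f) (MonoidHom.ext fun z => ?_))
        simp [mul_assoc]
      exact hle ⟨x, hx, by simp⟩
    refine ((hmin W hWn (iSup_le fun g => (hfam g).1)).resolve_left fun h => hS0 ?_).symm
    refine le_bot_iff.1 (h ▸ le_iSup_of_le 1 ?_)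
    intro x hx
    rw [hmap]; simpa using hx
  have hnaS : ¬ IsMulCommutative S := fun hc => by
    apply hna
    have : ∀ g h : G, S.map (MulAut.conj g).toMonoidHom ≤
        centralizer ((S.map (MulAut.conj h).toMonoidHom : Subgroup G) : Set G) := by
      intro g h x hx
      rw [mem_centralizer_iff]
      intro y hy
      have hx' : (h⁻¹ * g)⁻¹ * (h⁻¹ * x * h) * (h⁻¹ * g) ∈ S := by
        have := (hmap g x).1 hx
        simpa [mul_assoc] using this
      have hy' := (hmap h y).1 hy
      have key : (h⁻¹ * y * h) * (h⁻¹ * x * h) = (h⁻¹ * x * h) * (h⁻¹ * y * h) := by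
        rcases hcomm (h⁻¹ * g) with e | e
        · have hx'' : h⁻¹ * x * h ∈ S := e ▸ (hmap (h⁻¹ * g) _).2 hx'
          exact congrArg Subtype.val (hc.is_comm.comm (⟨_, hy'⟩ : S) ⟨_, hx''⟩)
        · exact mem_centralizer_iff.1 (e ((hmap (h⁻¹ * g) _).2 hx')).2 _ hy'
      calc y * x = h * ((h⁻¹ * y * h) * (h⁻¹ * x * h)) * h⁻¹ := by group
        _ = h * ((h⁻¹ * x * h) * (h⁻¹ * y * h)) * h⁻¹ := by rw [key]
        _ = x * y := by group
    refine ⟨⟨fun a b => Subtype.ext ?_⟩⟩
    have hle : N ≤ centralizer (N : Set G) := by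
      conv_lhs => rw [hgen]
      refine iSup_le fun g => le_centralizer_iff.1 ?_
      conv_lhs => rw [hgen]
      exact iSup_le fun h => this h g
    exact (mem_centralizer_iff.1 (hle a.2) b b.2).symm
  have hZ : S ⊓ centralizer (S : Set G) = ⊥ := by
    by_contra h
    have := hmin' _ inf_le_left h fun n hn => mem_normalizer_iff.2 fun x => by
      have hnS := hSn hn
      refine and_congr (mem_normalizer_iff.1 hnS x) ?_
      simp only [SetLike.mem_coe, mem_centralizer_iff]
      constructor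
      · intro hx s hs
        have hs' : n⁻¹ * s * n ∈ S := by
          simpa using (mem_normalizer_iff.1 (inv_mem hnS) s).1 hs
        calc s * (n * x * n⁻¹) = n * ((n⁻¹ * s * n) * x) * n⁻¹ := by group
          _ = n * (x * (n⁻¹ * s * n)) * n⁻¹ := by rw [hx _ hs']
          _ = n * x * n⁻¹ * s := by group
      · intro hx s hs
        have hs' := (mem_normalizer_iff.1 hnS s).1 hs
        calc s * x = n⁻¹ * ((n * s * n⁻¹) * (n * x * n⁻¹)) * n := by group
          _ = n⁻¹ * ((n * x * n⁻¹) * (n * s * n⁻¹)) * n := by rw [hx _ hs']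
          _ = x * s := by group
    exact hnaS ⟨⟨fun a b => Subtype.ext (mem_centralizer_iff.1 (this.ge b.2).2 a a.2)⟩⟩
  have hsup : N ≤ S ⊔ (N ⊓ centralizer (S : Set G)) := by
    conv_lhs => rw [hgen]
    refine iSup_le fun g => ?_
    rcases hcomm g with e | e
    · exact e.le.trans le_sup_left
    · exact e.trans le_sup_right
  refine ⟨S, hSN, ?_, hnaS, hSn, hZ, hsup, hmin', hcomm, hgen⟩
  haveI : Nontrivial S := (nontrivial_iff_ne_bot S).2 hS0
  refine ⟨fun K hK => ?_⟩
  by_cases hK0 : K = ⊥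
  · exact Or.inl hK0
  refine Or.inr ?_
  have hle : K.map S.subtype ≤ S := map_subtype_le K
  have hnK : N ≤ normalizer ((K.map S.subtype : Subgroup G) : Set G) := by
    refine hsup.trans (sup_le (fun s hs => mem_normalizer_iff.2 fun x => ?_) fun c hc => mem_normalizer_iff.2 fun x => ?_)
    · constructor
      · rintro ⟨k, hk, rfl⟩
        exact ⟨⟨s, hs⟩ * k * ⟨s, hs⟩⁻¹, hK.conj_mem k hk _, rfl⟩
      · rintro ⟨k, hk, e⟩
        refine ⟨⟨s, hs⟩⁻¹ * k * ⟨s, hs⟩, by simpa using hK.conj_mem k hk (⟨s, hs⟩⁻¹ : S), ?_⟩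
        simp only [map_mul, map_inv, Subgroup.coe_subtype, e]
        group
    · constructor
      · intro hx
        have := mem_centralizer_iff.1 hc.2 x (hle hx)
        rwa [← this, mul_inv_cancel_right]
      · intro hx
        have h' := mem_centralizer_iff.1 hc.2 _ (hle hx)
        have e : c * x * c⁻¹ = x := by
          have : c * x * c⁻¹ * c = c * (c * x * c⁻¹) := h'
          simp [mul_assoc] at this
          rw [mul_assoc]
          exact this.symm
        rwa [e] at hx
  have := hmin' _ hle (fun h => hK0 ((map_eq_bot_iff_of_injective _ S.subtype_injective).1 h)) hnK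
  rw [eq_top_iff]
  intro k _
  obtain ⟨k', hk', e⟩ : (k : G) ∈ K.map S.subtype := this.symm ▸ k.2
  exact (Subtype.ext e : k' = k) ▸ hk'

variable {Ω : Type*} [MulAction G Ω] [FaithfulSMul G Ω]

theorem pretransitive_of_normal (hprim : IsPreprimitive G Ω) (N : Subgroup G) [N.Normal] (hN : N ≠ ⊥) :
    IsPretransitive N Ω := by
  haveI := hprim
  refine IsQuasiPreprimitive.isPretransitive_of_normal (G := G) fun h => hN ?_
  rw [eq_bot_iff]
  intro w hw
  refine Subgroup.mem_bot.2 (eq_of_smul_eq_smul (α := Ω) fun z => ?_)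
  rw [one_smul]
  exact mem_fixedPoints.1 (h.symm ▸ Set.mem_univ z : z ∈ fixedPoints N Ω) ⟨w, hw⟩

/-- A normal subgroup centralised by a nontrivial normal subgroup is semiregular. -/
theorem semiregular_of_centralized (hprim : IsPreprimitive G Ω) {N C : Subgroup G} [C.Normal] (hC : C ≠ ⊥)
    (hNC : N ≤ centralizer (C : Set G)) {n : G} (hn : n ∈ N) {ω : Ω} (hfix : n • ω = ω) : n = 1 := by
  haveI := pretransitive_of_normal hprim C hC
  refine eq_of_smul_eq_smul (α := Ω) fun z => ?_
  obtain ⟨c, hc⟩ := exists_smul_eq C ω z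
  have hc' : (c : G) • ω = z := hc
  rw [one_smul, ← hc', ← mul_smul, ← mem_centralizer_iff.1 (hNC hn) c c.2, mul_smul, hfix]

/-- An abelian minimal normal subgroup of a primitive group is elementary abelian and regular. -/
theorem abelian_regular (hprim : IsPreprimitive G Ω) {N : Subgroup G} (hN : N.Normal) (hne : N ≠ ⊥)
    (hmin : ∀ K : Subgroup G, K.Normal → K ≤ N → K = ⊥ ∨ K = N) (hab : IsMulCommutative N) :
    ∃ r : ℕ, r.Prime ∧ (∀ x ∈ N, x ^ r = 1) ∧ IsPretransitive N Ω ∧ ∀ ω : Ω, stabilizer N ω = ⊥ := by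
  haveI := hN
  obtain ⟨r, hr, hrd⟩ := Nat.exists_prime_and_dvd (fun h => hne (N.eq_bot_of_card_eq h))
  haveI := Fact.mk hr
  obtain ⟨x, hx⟩ := exists_prime_orderOf_dvd_card' r hrd
  have hle : ∀ a ∈ N, ∀ b ∈ N, a * b = b * a := fun a ha b hb =>
    congrArg Subtype.val (hab.is_comm.comm (⟨a, ha⟩ : N) ⟨b, hb⟩)
  let W : Subgroup G :=
    { carrier := {y | y ∈ N ∧ y ^ r = 1}
      one_mem' := ⟨one_mem _, one_pow _⟩
      mul_mem' := fun {a b} ha hb => ⟨mul_mem ha.1 hb.1, by
        rw [Commute.mul_pow (hle a ha.1 b hb.1), ha.2, hb.2, one_mul]⟩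
      inv_mem' := fun {a} ha => ⟨inv_mem ha.1, by rw [inv_pow, ha.2, inv_one]⟩ }
  have hW : W.Normal := ⟨fun y hy g => ⟨hN.conj_mem y hy.1 g, by rw [conj_pow, hy.2, mul_one, mul_inv_cancel]⟩⟩
  have hWN : W = N := (hmin W hW fun y hy => hy.1).resolve_left fun h => by
    have : (x : G) ∈ W := ⟨x.2, by rw [← Subgroup.coe_pow, ← hx, pow_orderOf_eq_one, Subgroup.coe_one]⟩
    rw [h, mem_bot, OneMemClass.coe_eq_one] at this
    rw [this, orderOf_one] at hx
    exact hr.ne_one hx.symm
  refine ⟨r, hr, fun y hy => (hWN.ge hy).2, pretransitive_of_normal hprim N hne, fun ω => ?_⟩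
  rw [eq_bot_iff]
  intro n hn
  refine Subgroup.mem_bot.2 (Subtype.ext ?_)
  exact semiregular_of_centralized hprim (N := N) (C := N) hne
    (fun a ha => mem_centralizer_iff.2 fun b hb => hle b hb a ha) n.2 (mem_stabilizer_iff.1 hn)

end Cfsg.Lib.PrimTypes
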