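import Cfsg.Agent.PrimTypes.Basic
import Cfsg.Agent.S0144

/-!
# Derangements in a nonabelian minimal normal subgroup of a primitive group
-/

set_option autoImplicit false
set_option linter.unusedSectionVars false
set_option linter.style.haveILetI false

namespace Cfsg.Lib.PrimTypes

open Subgroup MulAction

variable {G : Type*} [Group G] [Finite G] {Ω : Type*} [MulAction G Ω] [FaithfulSMul G Ω]

/-- A nonabelian minimal normal subgroup of a primitive group that is not almost simple has either a simple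
factor consisting of derangements, or a derangement in a factor staying a derangement after multiplication
by the complementary factors. -/
theorem exists_derangement_factor (hprim : IsPreprimitive G Ω) [Nontrivial Ω]
    (hnas : ¬ ∃ T : Subgroup G, T.Normal ∧ IsSimpleGroup T ∧ ¬ IsMulCommutative T ∧
      centralizer (T : Set G) = ⊥)
    {N : Subgroup G} (hN : N.Normal) (hne : N ≠ ⊥)
    (hmin : ∀ K : Subgroup G, K.Normal → K ≤ N → K = ⊥ ∨ K = N) (hab : ¬ IsMulCommutative N) :
    ∃ S : Subgroup G, S ≤ N ∧ IsSimpleGroup S ∧ ¬ IsMulCommutative S ∧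
      S ⊓ centralizer (S : Set G) = ⊥ ∧
      (∀ g : G, S.map (MulAut.conj g).toMonoidHom = S ∨
        S.map (MulAut.conj g).toMonoidHom ≤ N ⊓ centralizer (S : Set G)) ∧
      ((∀ s ∈ S, s ≠ 1 → ∀ ω : Ω, s • ω ≠ ω) ∨
        ((∃ x ∈ S, x ≠ 1 ∧ ∀ y ∈ N ⊓ centralizer (S : Set G), ∀ ω : Ω, (x * y) • ω ≠ ω) ∧
          ∃ g : G, S.map (MulAut.conj g).toMonoidHom ≤ N ⊓ centralizer (S : Set G))) := by
  haveI := hN
  haveI := hprim
  obtain ⟨a⟩ : Nonempty Ω := inferInstance
  haveI : IsPretransitive N Ω := pretransitive_of_normal hprim N hne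
  obtain ⟨S, hSN, hS, hnaS, hSn, hZ, hsup, hfam, hconj, hgen⟩ := exists_simple_factor hN hne hmin hab
  refine ⟨S, hSN, hS, hnaS, hZ, hconj, ?_⟩
  have hsemi : S ⊓ stabilizer G a = ⊥ → ∀ s ∈ S, s ≠ 1 → ∀ ω : Ω, s • ω ≠ ω := by
    intro h s hs hs1 ω hω
    obtain ⟨⟨n, hn⟩, rfl⟩ := exists_smul_eq N a ω
    have hω' : s • n • a = n • a := hω
    have h1 : n⁻¹ * s * n ∈ S ⊓ stabilizer G a := mem_inf.2
      ⟨by simpa using (mem_normalizer_iff.1 (inv_mem (hSn hn)) s).1 hs, mem_stabilizer_iff.2 (by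
        rw [mul_smul, mul_smul, hω', inv_smul_smul])⟩
    rw [h, mem_bot] at h1
    exact hs1 (by rw [show s = n * (n⁻¹ * s * n) * n⁻¹ by group, h1]; group)
  by_cases hSN' : S = N
  · subst hSN'
    refine Or.inl ?_
    haveI hCn : (centralizer (S : Set G)).Normal := ⟨fun x hx g => by
      rw [mem_centralizer_iff] at hx ⊢
      intro s hs
      have hs' : g⁻¹ * s * g ∈ S := by simpa using hN.conj_mem s hs g⁻¹
      calc s * (g * x * g⁻¹) = g * ((g⁻¹ * s * g) * x) * g⁻¹ := by group
        _ = g * (x * (g⁻¹ * s * g)) * g⁻¹ := by rw [hx _ hs']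
        _ = g * x * g⁻¹ * s := by group⟩
    exact hsemi (eq_bot_iff.2 fun x hx => mem_bot.2 (semiregular_of_centralized hprim
      (fun h => hnas ⟨S, hN, hS, hnaS, h⟩) (le_centralizer_iff.1 le_rfl) hx.1 (mem_stabilizer_iff.1 hx.2)))
  set M := N ⊓ centralizer (S : Set G) with hM
  set K := stabilizer G a ⊓ N with hK
  have hcommSM : ∀ s ∈ S, ∀ m ∈ M, s * m = m * s := fun s hs m hm => mem_centralizer_iff.1 hm.2 s hs
  have hnc : ∀ n ∈ normalizer (S : Set G), ∀ x ∈ centralizer (S : Set G), n * x * n⁻¹ ∈ centralizer (S : Set G) := by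
    intro n hn x hx
    rw [mem_centralizer_iff] at hx ⊢
    intro s hs
    have hs' : n⁻¹ * s * n ∈ S := by simpa using (mem_normalizer_iff.1 (inv_mem hn) s).1 hs
    calc s * (n * x * n⁻¹) = n * ((n⁻¹ * s * n) * x) * n⁻¹ := by group
      _ = n * (x * (n⁻¹ * s * n)) * n⁻¹ := by rw [hx _ hs']
      _ = n * x * n⁻¹ * s := by group
  have hMN : N ≤ normalizer (M : Set G) := fun n hn => mem_normalizer_iff.2 fun x =>
    ⟨fun hx => mem_inf.2 ⟨hN.conj_mem x hx.1 n, hnc n (hSn hn) x hx.2⟩, fun hx => by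
      have h1 := hN.conj_mem _ hx.1 n⁻¹
      have h2 := hnc n⁻¹ (hSn (inv_mem hn)) _ hx.2
      simp only [inv_inv] at h1 h2
      exact mem_inf.2 ⟨by simpa [mul_assoc] using h1, by simpa [mul_assoc] using h2⟩⟩
  by_cases hfull : S ≤ K ⊔ M
  · refine Or.inl (hsemi ?_)
    by_contra h0
    have hSK : S ≤ stabilizer G a := by
      have := hfam (S ⊓ stabilizer G a) inf_le_left h0 (hsup.trans (sup_le (hfull.trans (sup_le ?_ ?_)) ?_))
      · exact inf_eq_left.1 this
      · exact fun k hk => mem_normalizer_iff.2 fun x =>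
          and_congr (mem_normalizer_iff.1 (hSn hk.2) x) (mem_normalizer_iff.1 (le_normalizer hk.1) x)
      all_goals
        intro m hm
        refine mem_normalizer_iff.2 fun x => ⟨fun hx => ?_, fun hx => ?_⟩
        · rwa [← hcommSM x hx.1 m hm, mul_inv_cancel_right]
        · have h1 := hcommSM _ hx.1 m hm
          have e : m * x * m⁻¹ = x := by
            calc m * x * m⁻¹ = m⁻¹ * (m * (m * x * m⁻¹)) := by group
              _ = m⁻¹ * ((m * x * m⁻¹) * m) := by rw [h1]
              _ = x := by group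
          rwa [e] at hx
    have hall : N ≤ stabilizer G a := by
      rw [hgen]
      refine iSup_le fun g => ?_
      obtain ⟨⟨n, hn⟩, hna⟩ := exists_smul_eq N (g⁻¹ • a) a
      have hna' : n • g⁻¹ • a = a := hna
      intro x hx
      rw [mem_map_equiv, MulAut.conj_symm_apply] at hx
      have hx' : (n * (g⁻¹ * x * g) * n⁻¹) • a = a :=
        mem_stabilizer_iff.1 (hSK ((mem_normalizer_iff.1 (hSn hn) _).1 hx))
      rw [mem_stabilizer_iff]
      simp only [mul_smul] at hx'
      have : n⁻¹ • a = g⁻¹ • a := by rw [inv_smul_eq_iff, hna']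
      rw [this, smul_inv_smul, ← hna', smul_left_cancel_iff, hna', inv_smul_eq_iff, smul_inv_smul] at hx'
      exact hx'
    obtain ⟨x, y, hxy⟩ := exists_pair_ne Ω
    have : ∀ z : Ω, z = a := fun z => by
      obtain ⟨⟨n, hn⟩, rfl⟩ := exists_smul_eq N a z
      exact mem_stabilizer_iff.1 (hall hn)
    exact hxy ((this x).trans (this y).symm)
  · have hH : ((K ⊔ M).subgroupOf S) ≠ ⊤ := fun h => hfull (subgroupOf_eq_top.1 h)
    obtain ⟨x, hx⟩ := Cfsg.Lib.SolvStruct.exists_not_mem_conj _ hH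
    refine Or.inr ⟨⟨x, x.2, fun h => hx 1 ?_, fun y hy ω hω => ?_⟩, ?_⟩
    · rw [inv_one, one_mul, mul_one, mem_subgroupOf, h]
      exact one_mem _
    · obtain ⟨⟨n, hn⟩, rfl⟩ := exists_smul_eq N a ω
      have hω' : ((x : G) * y) • n • a = n • a := hω
      have h1 : n⁻¹ * ((x : G) * y) * n ∈ K := mem_inf.2 ⟨mem_stabilizer_iff.2 (by
        rw [mul_smul, mul_smul, hω', inv_smul_smul]), mul_mem (mul_mem (inv_mem hn) (mul_mem (hSN x.2) hy.1)) hn⟩
      have hsn : n ∈ S ⊔ M := hsup hn
      rw [← SetLike.mem_coe, coe_mul_of_left_le_normalizer_right S M (hSN.trans hMN)] at hsn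
      obtain ⟨s, hs, m, hm, rfl⟩ := Set.mem_mul.1 hsn
      refine hx ⟨s, hs⟩ ?_
      rw [mem_subgroupOf]
      have hxs : s⁻¹ * (x : G) * s ∈ S := mul_mem (mul_mem (inv_mem hs) x.2) hs
      have hym : m⁻¹ * y * m ∈ M := mul_mem (mul_mem (inv_mem hm) hy) hm
      have e : (s * m)⁻¹ * ((x : G) * y) * (s * m) = s⁻¹ * (x : G) * s * (m⁻¹ * y * m) := by
        calc (s * m)⁻¹ * ((x : G) * y) * (s * m) = m⁻¹ * ((s⁻¹ * x) * (y * s)) * m := by group
          _ = m⁻¹ * ((s⁻¹ * x) * (s * y)) * m := by rw [hcommSM s hs y hy]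
          _ = m⁻¹ * (s⁻¹ * x * s) * (y * m) := by group
          _ = (s⁻¹ * x * s) * m⁻¹ * (y * m) := by rw [hcommSM _ hxs _ (inv_mem hm)]
          _ = s⁻¹ * (x : G) * s * (m⁻¹ * y * m) := by group
      have h2 : s⁻¹ * (x : G) * s * (m⁻¹ * y * m) ∈ K ⊔ M := mem_sup_left (e ▸ h1)
      have h3 := mul_mem h2 (inv_mem (mem_sup_right hym : m⁻¹ * y * m ∈ K ⊔ M))
      rwa [mul_inv_cancel_right] at h3
    · by_contra hno
      push Not at hno
      refine hSN' (le_antisymm hSN (hgen.le.trans (iSup_le fun g => ?_)))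
      exact ((hconj g).resolve_right (hno g)).le

/-- A nonabelian finite simple group has elements of three different prime orders. -/
theorem exists_three_primes {S : Subgroup G} (hS : IsSimpleGroup S) (hna : ¬ IsMulCommutative S) :
    3 ≤ (Nat.card S).primeFactors.card := by
  by_contra hlt
  push Not at hlt
  have hsol : ∀ p q : ℕ, p.Prime → q.Prime → (Nat.card S).primeFactors ⊆ {p, q} → Group.IsSolvable S := by
    intro p q hp hq hsub
    rcases eq_or_ne p q with rfl | hne
    · haveI := Fact.mk hp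
      have : IsPGroup p S := IsPGroup.of_card (n := (Nat.card S).primeFactorsList.length)
        (Nat.eq_prime_pow_of_unique_prime_dvd Nat.card_pos.ne' fun {r} hr hd => by
          simpa using hsub (Nat.mem_primeFactors.2 ⟨hr, hd, Nat.card_pos.ne'⟩))
      haveI := this.isNilpotent
      infer_instance
    · refine Cfsg.Agent.S0144.result p q ((Nat.card S).factorization p) ((Nat.card S).factorization q) hp hq ?_
      conv_lhs => rw [Nat.prod_primeFactors_pow_factorization (Nat.card_pos (α := S)).ne']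
      rw [Finset.prod_subset hsub fun r _ hr => ?_, Finset.prod_pair hne]
      rw [Finsupp.notMem_support_iff.1 (by rwa [Nat.support_factorization]), pow_zero]
  have hsolv : Group.IsSolvable S := by
    rcases (show (Nat.card S).primeFactors.card = 0 ∨ (Nat.card S).primeFactors.card = 1 ∨
        (Nat.card S).primeFactors.card = 2 by omega) with e | e | e
    · exact hsol 2 2 Nat.prime_two Nat.prime_two (by rw [Finset.card_eq_zero.1 e]; exact Finset.empty_subset _)
    · obtain ⟨p, hp⟩ := Finset.card_eq_one.1 e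
      have hpp : p.Prime := (Nat.mem_primeFactors.1 (hp ▸ Finset.mem_singleton_self p)).1
      exact hsol p p hpp hpp (by rw [hp]; simp)
    · obtain ⟨p, q, -, hpq⟩ := Finset.card_eq_two.1 e
      exact hsol p q (Nat.mem_primeFactors.1 (hpq ▸ Finset.mem_insert_self p _)).1
        (Nat.mem_primeFactors.1 (hpq ▸ Finset.mem_insert.2 (Or.inr (Finset.mem_singleton_self q)))).1 hpq.le
  haveI := hS
  exact hna ⟨⟨fun a b => (IsSimpleGroup.comm_iff_isSolvable.2 hsolv) a b⟩⟩

end Cfsg.Lib.PrimTypes
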