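import Cfsg.Agent.S0183
import Cfsg.Agent.Transfer.Basic

/-!
# A simple group whose centralisers correspond to maximal subgroups of an acting group
-/

set_option autoImplicit false

namespace Cfsg.Lib.PrimTypes

open Subgroup

variable {T A : Type*} [Group T] [Finite T] [Group A] [Finite A]

/-- There is no nonabelian simple group `T` with a map `s ↦ X s` into the maximal subgroups of a group `A`,
monotone on powers, equivariant, and recording the centralisers in `T`. -/
theorem false_of_maximal_centralizers (hT : IsSimpleGroup T) (hna : ¬ IsMulCommutative T) (X : T → Subgroup A)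
    (hco : ∀ s : T, s ≠ 1 → IsCoatom (X s))
    (hpow : ∀ (s : T) (i : ℕ), s ≠ 1 → s ^ i ≠ 1 → X s ≤ X (s ^ i))
    (hact : ∀ t : T, ∃ a : A, ∀ s : T, s ≠ 1 →
      (X s).map (MulAut.conj a).toMonoidHom = X (t * s * t⁻¹) ∧ (a ∈ X s ↔ t * s = s * t)) : False := by
  haveI := hT
  have heq : ∀ (s : T) (i : ℕ), s ^ i ≠ 1 → X (s ^ i) = X s := fun s i hi => by
    have hs : s ≠ 1 := fun h => hi (by rw [h, one_pow])
    exact (((hco s hs).le_iff).1 (hpow s i hs hi)).resolve_left (hco _ hi).1
  have hC : ∀ (s u : T), s ≠ 1 → u ≠ 1 → X s = X u → ∀ t, t * s = s * t ↔ t * u = u * t := by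
    intro s u hs hu h t
    obtain ⟨a, ha⟩ := hact t
    rw [← (ha s hs).2, ← (ha u hu).2, h]
  have hCpow : ∀ (s : T) (i : ℕ), s ^ i ≠ 1 → ∀ t, t * s = s * t ↔ t * s ^ i = s ^ i * t := fun s i hi =>
    hC s _ (fun h => hi (by rw [h, one_pow])) hi (heq s i hi).symm
  have hcomm_top : (∀ a b : T, a * b = b * a) → False := fun h => hna ⟨⟨h⟩⟩
  -- an element inverted by another is an involution
  have hreal : ∀ t w : T, w ≠ 1 → t * w * t⁻¹ = w⁻¹ → w * w = 1 := by
    intro t w hw h
    obtain ⟨a, ha⟩ := hact t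
    have hinv : X w⁻¹ = X w := by
      have he : w ^ (orderOf w - 1) = w⁻¹ := eq_inv_of_mul_eq_one_left (by
        rw [← pow_succ, Nat.sub_add_cancel (orderOf_pos w), pow_orderOf_eq_one])
      rw [← he]
      exact heq w _ (by rw [he]; exact inv_ne_one.2 hw)
    by_cases haX : a ∈ X w
    · have := (ha w hw).2.1 haX
      rw [this, mul_inv_cancel_right] at h
      nth_rw 2 [h]
      exact mul_inv_cancel w
    exfalso
    have hnorm : (⊤ : Subgroup A) ≤ normalizer (X w : Set A) := by
      have han : a ∈ normalizer (X w : Set A) := mem_normalizer_iff.2 fun x => by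
        conv_rhs => rw [← hinv, ← h, ← (ha w hw).1, mem_map_equiv, MulAut.conj_symm_apply]
        simp [mul_assoc]
      refine ((((hco w hw).le_iff).1 le_normalizer).resolve_right fun e => haX ?_).ge
      exact e ▸ han
    have hfix : ∀ u c : T, c * w = w * c → (u * c * u⁻¹) * w = w * (u * c * u⁻¹) := by
      intro u c hc
      obtain ⟨b, hb⟩ := hact u
      have hX : X (u * w * u⁻¹) = X w := by
        rw [← (hb w hw).1]
        ext x
        rw [mem_map_equiv, MulAut.conj_symm_apply]
        have := (mem_normalizer_iff.1 (hnorm (mem_top b⁻¹)) x).symm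
        simpa using this
      refine (hC (u * w * u⁻¹) w (fun e => hw (conj_eq_one_iff.1 e)) hw hX _).1 ?_
      calc u * c * u⁻¹ * (u * w * u⁻¹) = u * (c * w) * u⁻¹ := by group
        _ = u * (w * c) * u⁻¹ := by rw [hc]
        _ = u * w * u⁻¹ * (u * c * u⁻¹) := by group
    have hn : (centralizer ({w} : Set T)).Normal := ⟨fun c hc u => by
      rw [mem_centralizer_singleton_iff] at hc ⊢
      exact hfix u c hc⟩
    rcases IsSimpleGroup.eq_bot_or_eq_top_of_normal _ hn with e | e
    · exact hw (mem_bot.1 (e ▸ mem_centralizer_singleton_iff.2 rfl))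
    · have hwc : w ∈ center T := mem_center_iff.2 fun g =>
        (mem_centralizer_singleton_iff.1 (e ▸ mem_top g))
      rcases IsSimpleGroup.eq_bot_or_eq_top_of_normal (center T) inferInstance with e' | e'
      · exact hw (mem_bot.1 (e' ▸ hwc))
      · exact hcomm_top fun a b => (mem_center_iff.1 (e' ▸ mem_top a) b).symm
  -- involutions commute, so the order is odd
  have hodd : Odd (Nat.card T) := by
    rw [← Nat.not_even_iff_odd]
    intro hev
    haveI := Fact.mk Nat.prime_two
    obtain ⟨t₀, ht₀⟩ := exists_prime_orderOf_dvd_card' 2 (even_iff_two_dvd.1 hev)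
    set I := {t : T | t * t = 1} with hI
    have hII : ∀ t ∈ I, ∀ u ∈ I, t * u = u * t := by
      intro t ht u hu
      have hti : t⁻¹ = t := inv_eq_of_mul_eq_one_right ht
      have hui : u⁻¹ = u := inv_eq_of_mul_eq_one_right hu
      by_cases hw : t * u = 1
      · rw [eq_inv_of_mul_eq_one_left hw, hui]
      have := hreal t (t * u) hw (by
        rw [mul_inv_rev, hti, hui, ← mul_assoc t t u, show t * t = 1 from ht, one_mul])
      calc t * u = (t * u)⁻¹ := (inv_eq_of_mul_eq_one_right this).symm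
        _ = u * t := by rw [mul_inv_rev, hti, hui]
    have hcl := isMulCommutative_closure hII
    haveI : (closure I).Normal := by
      refine ⟨fun x hx g => ?_⟩
      induction hx using Subgroup.closure_induction with
      | mem y hy =>
        refine subset_closure ?_
        show g * y * g⁻¹ * (g * y * g⁻¹) = 1
        rw [show g * y * g⁻¹ * (g * y * g⁻¹) = g * (y * y) * g⁻¹ by group, show y * y = 1 from hy, mul_one,
          mul_inv_cancel]
      | one => simp
      | mul a b _ _ iha ihb =>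
        rw [show g * (a * b) * g⁻¹ = (g * a * g⁻¹) * (g * b * g⁻¹) by group]
        exact mul_mem iha ihb
      | inv a _ iha =>
        rw [show g * a⁻¹ * g⁻¹ = (g * a * g⁻¹)⁻¹ by group]
        exact inv_mem iha
    rcases IsSimpleGroup.eq_bot_or_eq_top_of_normal (closure I) inferInstance with e | e
    · have h1 : t₀ ∈ I := by
        show t₀ * t₀ = 1
        rw [← pow_two, ← ht₀, pow_orderOf_eq_one]
      have : t₀ = 1 := mem_bot.1 (e ▸ subset_closure h1)
      rw [this, orderOf_one] at ht₀
      omega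
    · exact hcomm_top fun a b => congrArg Subtype.val
        (hcl.is_comm.comm (⟨a, e ▸ mem_top a⟩ : closure I) ⟨b, e ▸ mem_top b⟩)
  -- centralisers are nilpotent
  have hkey : ∀ (p : ℕ) (x y : T), p.Prime → x ≠ 1 → y ≠ 1 → (∃ k, orderOf x = p ^ k) →
      (orderOf y).Coprime p → x * y = y * x → ∀ t, t * x = x * t ↔ t * y = y * t := by
    intro p x y hp hx hy hk hcop hxy t
    obtain ⟨k, hk⟩ := hk
    have hc : (orderOf x).Coprime (orderOf y) := hk ▸ (Nat.Coprime.pow_left k hcop.symm)
    have h1 : x ^ orderOf y ≠ 1 := fun h => hx (orderOf_eq_one_iff.1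
      ((Nat.Coprime.eq_one_of_dvd hc (orderOf_dvd_of_pow_eq_one h))))
    have h2 : y ^ orderOf x ≠ 1 := fun h => hy (orderOf_eq_one_iff.1
      ((Nat.Coprime.eq_one_of_dvd hc.symm (orderOf_dvd_of_pow_eq_one h))))
    have e1 : (x * y) ^ orderOf y = x ^ orderOf y := by
      rw [(show Commute x y from hxy).mul_pow, pow_orderOf_eq_one, mul_one]
    have e2 : (x * y) ^ orderOf x = y ^ orderOf x := by
      rw [(show Commute x y from hxy).mul_pow, pow_orderOf_eq_one, one_mul]
    rw [hCpow x _ h1, hCpow y _ h2, ← e1, ← e2, ← hCpow (x * y) _ (e1 ▸ h1), ← hCpow (x * y) _ (e2 ▸ h2)]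
  have hCN : Cfsg.IsCNGroup T := by
    intro s hs
    obtain ⟨p, hp, hps⟩ := Nat.exists_prime_and_dvd (fun h => hs (orderOf_eq_one_iff.1 h))
    haveI := Fact.mk hp
    obtain ⟨x, b, hxz, hbz, hxb, hxo, hbo⟩ := Cfsg.Lib.Transfer.exists_pPart p s
    have hx : x ≠ 1 := fun h => by
      rw [h, one_mul] at hxb
      rw [hxb] at hbo
      exact (hp.coprime_iff_not_dvd.1 hbo.symm) hps
    obtain ⟨i, hi⟩ := mem_powers_iff_mem_zpowers.2 hxz
    have hi' : s ^ i = x := hi
    have hCs : centralizer ({s} : Set T) = centralizer ({x} : Set T) := by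
      ext t
      rw [mem_centralizer_singleton_iff, mem_centralizer_singleton_iff, hCpow s i (hi'.symm ▸ hx), hi']
    rw [hCs]
    by_cases hpgrp : IsPGroup p (centralizer ({x} : Set T))
    · exact hpgrp.isNilpotent
    simp only [IsPGroup, not_forall, not_exists] at hpgrp
    obtain ⟨⟨z, hz⟩, hzp⟩ := hpgrp
    obtain ⟨a, c, haz, hcz, hac, ⟨j, hj⟩, hco'⟩ := Cfsg.Lib.Transfer.exists_pPart p z
    have hzM : Subgroup.zpowers z ≤ centralizer ({x} : Set T) := zpowers_le.2 hz
    have hc1 : c ≠ 1 := fun h => hzp j (Subtype.ext (by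
      rw [Subgroup.coe_pow, Subgroup.coe_one]
      show z ^ p ^ j = 1
      rw [← hac, h, mul_one, ← hj, pow_orderOf_eq_one]))
    obtain ⟨q, hq, hqc⟩ := Nat.exists_prime_and_dvd (fun h => hc1 (orderOf_eq_one_iff.1 h))
    set y := c ^ (orderOf c / q) with hy
    have hyo : orderOf y = q := orderOf_pow_orderOf_div (orderOf_pos c).ne' hqc
    have hy1 : y ≠ 1 := fun h => hq.ne_one (by rw [← hyo, h, orderOf_one])
    have hqp : q ≠ p := fun e => (hp.coprime_iff_not_dvd.1 hco'.symm) (e ▸ hqc)
    have hyM : y ∈ centralizer ({x} : Set T) := pow_mem (hzM hcz) _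
    have hxy : ∀ t, t * x = x * t ↔ t * y = y * t := hkey p x y hp hx hy1 hxo
      (hyo ▸ (Nat.coprime_primes hq hp).2 hqp) (mem_centralizer_singleton_iff.1 hyM).symm
    haveI := Fact.mk hq
    have hcent : ∀ u ∈ centralizer ({x} : Set T), ∀ t ∈ centralizer ({x} : Set T), t * u = u * t := by
      intro u hu t ht
      obtain ⟨u₁, u₂, hu₁, hu₂, he, hu₁o, hu₂o⟩ := Cfsg.Lib.Transfer.exists_pPart p u
      have hle : Subgroup.zpowers u ≤ centralizer ({x} : Set T) := zpowers_le.2 hu
      have h2 : t * u₂ = u₂ * t := by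
        rcases eq_or_ne u₂ 1 with e | e
        · rw [e, mul_one, one_mul]
        · exact (hkey p x u₂ hp hx e hxo hu₂o (mem_centralizer_singleton_iff.1 (hle hu₂)).symm t).1
            (mem_centralizer_singleton_iff.1 ht)
      have h1 : t * u₁ = u₁ * t := by
        rcases eq_or_ne u₁ 1 with e | e
        · rw [e, mul_one, one_mul]
        · obtain ⟨l, hl⟩ := hu₁o
          refine (hkey q y u₁ hq hy1 e ⟨1, by rw [hyo, pow_one]⟩ (hl ▸ Nat.Coprime.pow_left l
            ((Nat.coprime_primes hp hq).2 hqp.symm)) ?_ t).1 ((hxy t).1 (mem_centralizer_singleton_iff.1 ht))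
          exact ((hxy u₁).1 (mem_centralizer_singleton_iff.1 (hle hu₁))).symm
      rw [← he, ← mul_assoc, h1, mul_assoc, h2, mul_assoc]
    haveI : IsMulCommutative (centralizer ({x} : Set T)) :=
      ⟨⟨fun u v => Subtype.ext (hcent v v.2 u u.2)⟩⟩
    open scoped IsMulCommutative in exact inferInstance
  exact hna ⟨⟨fun a b => (IsSimpleGroup.comm_iff_isSolvable.2 (Cfsg.Agent.S0183.result hodd hCN)) a b⟩⟩

end Cfsg.Lib.PrimTypes
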